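import Groth.Agent.CohtopB.RPushExt
import Groth.Prelude.Def_CohTop
import Groth.Prelude.Def_Coh

/-!
# A map of abelian sheaves which is zero on the cohomology of a basis is zero on higher direct images
-/

set_option autoImplicit false
universe u

open CategoryTheory CategoryTheory.Limits AlgebraicGeometry TopologicalSpace Opposite

namespace K666.Red4

/-- Maps of presheaves which vanish on a basis become zero after sheafification. -/
theorem presheafToSheaf_map_eq_zero {Y : TopCat.{u}} {P Q : (Opens Y)ᵒᵖ ⥤ AddCommGrpCat.{u}} (β : P ⟶ Q)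
    (B : Set (Opens Y)) (hB : Opens.IsBasis B) (h : ∀ V ∈ B, β.app (op V) = 0) :
    (presheafToSheaf (Opens.grothendieckTopology Y) AddCommGrpCat.{u}).map β = 0 := by
  let J := Opens.grothendieckTopology Y
  have h1 : β ≫ toSheafify J Q = 0 := by
    ext V x
    let R : TopCat.Sheaf AddCommGrpCat.{u} Y := (presheafToSheaf J AddCommGrpCat.{u}).obj Q
    let 𝒱 : Set (Opens Y) := {W | W ∈ B ∧ W ≤ V.unop}
    refine R.eq_of_locally_eq' (fun W : 𝒱 => W.1) V.unop (fun W => homOfLE W.2.2) ?_ _ _ fun W => ?_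
    · intro y hy
      obtain ⟨W, hW, hyW, hWV⟩ := Opens.isBasis_iff_nbhd.mp hB hy
      exact Opens.mem_iSup.mpr ⟨⟨W, hW, hWV⟩, hyW⟩
    · have h2 : (β ≫ toSheafify J Q).app V ≫ R.obj.map (homOfLE W.2.2).op =
          P.map (homOfLE W.2.2).op ≫ (β ≫ toSheafify J Q).app (op W.1) :=
        ((β ≫ toSheafify J Q).naturality (homOfLE W.2.2).op).symm
      have h3 : (β ≫ toSheafify J Q).app (op W.1) = 0 := by
        rw [NatTrans.comp_app, h W.1 W.2.1, zero_comp]
      rw [h3, comp_zero] at h2
      exact (ConcreteCategory.congr_hom h2 x).trans (map_zero (R.obj.map (homOfLE W.2.2).op).hom).symm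
  apply ObjectProperty.hom_ext
  change sheafifyMap J β = 0
  apply sheafify_hom_ext J _ _ ((presheafToSheaf J AddCommGrpCat.{u}).obj Q).property
  rw [comp_zero, ← toSheafify_naturality, h1]

/-- A map of abelian sheaves which is zero on the cohomology of the inverse images of a basis is zero on the
higher direct image. -/
theorem rpush_map_eq_zero {X Y : TopCat.{u}} (f : X ⟶ Y) {F G : CohTop.Ab X} (φ : F ⟶ G) (n : ℕ)
    (B : Set (Opens Y)) (hB : Opens.IsBasis B)
    (h : ∀ V ∈ B, ∀ x : CohTop.HU F n ((Opens.map f).obj V), CohTop.HUmap φ n ((Opens.map f).obj V) x = 0) :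
    (CohTop.Rpush f n).map φ = 0 := by
  have : ((Opens.map f).sheafPushforwardContinuous AddCommGrpCat.{u}
      (Opens.grothendieckTopology Y) (Opens.grothendieckTopology X)).Additive :=
    inferInstanceAs (CohTop.push f).Additive
  let e := Groth.Agent.CohtopB.RPushExt.siteIso (Opens.grothendieckTopology X)
      (Opens.grothendieckTopology Y) (Opens.map f) n
  have h1 : (Sheaf.cohomologyPresheafFunctor.{u} (Opens.grothendieckTopology X) n ⋙
      Groth.Agent.CohtopB.RPushExt.preSh (Opens.grothendieckTopology Y) (Opens.map f)).map φ = 0 := by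
    refine presheafToSheaf_map_eq_zero _ B hB fun V hV => ?_
    ext x
    exact h V hV x
  have h2 := e.hom.naturality φ
  rw [h1, comp_zero] at h2
  change ((Opens.map f).sheafPushforwardContinuous AddCommGrpCat.{u}
      (Opens.grothendieckTopology Y) (Opens.grothendieckTopology X) |>.rightDerived n).map φ = 0
  rw [← cancel_mono (e.hom.app G), h2, zero_comp]

/-- The same for schemes. -/
theorem rpushAb_map_eq_zero {X Y : Scheme.{u}} (f : X ⟶ Y) {F G : CohTop.Ab X.toTopCat} (φ : F ⟶ G) (n : ℕ)
    (h : ∀ V : Y.Opens, IsAffineOpen V → ∀ x : CohTop.HU (X := X.toTopCat) F n (f ⁻¹ᵁ V),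
      CohTop.HUmap (X := X.toTopCat) φ n (f ⁻¹ᵁ V) x = 0) :
    (Coh.RpushAb f n).map φ = 0 :=
  rpush_map_eq_zero (X := X.toTopCat) (Y := Y.toTopCat) f.base φ n {V | IsAffineOpen V} Y.isBasis_affineOpens
    fun V hV x => h V hV x

end K666.Red4
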